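import Groth.Agent.IntMult.K304.FlatRel
import Groth.Agent.CycB.RelDim4

/-!
# The relative dimension of a flat morphism is determined over an open set

* `hasRelDim_of_isPullback`: pure relative dimension is stable under base change.
* `hasRelDim_of_open`: `f : X ⟶ Y` flat, locally of finite type, `Y` integral (with dimension functions): if `f` has pure
  relative dimension `n` over a nonempty open set, then `f` has pure relative dimension `n`.
-/

set_option autoImplicit false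

universe u

open CategoryTheory CategoryTheory.Limits AlgebraicGeometry

namespace K101.RelDimFlat

open Groth.Agent Groth.Agent.CycB.RelDim Groth.Agent.CycB.LocQuot

variable {X Y X' Y' : Scheme.{u}}

theorem hasRelDim_iso_comp (e : X' ⟶ X) [IsIso e] (p : X ⟶ Y) [LocallyOfFiniteType p] {r : ℕ}
    (hr : Cyc.HasRelDim p r) : Cyc.HasRelDim (e ≫ p) r := by
  rw [hasRelDim_iff] at hr ⊢
  intro x hx
  have h1 : FibGeneric p (e x) := by
    intro y hy hs
    obtain ⟨y', rfl⟩ := e.surjective y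
    rw [hx y' hy ((e.isOpenEmbedding.isInducing.specializes_iff).1 hs)]
  rw [rtd_comp, hr (e x) h1, rtd_eq_zero_of_isPreimmersion e, add_zero]

/-- Relative dimension is stable under base change. -/
theorem hasRelDim_of_isPullback {f' : X' ⟶ Y'} {g' : X' ⟶ X} {g : Y' ⟶ Y} {f : X ⟶ Y}
    (h : IsPullback g' f' f g) [LocallyOfFiniteType f] {r : ℕ} (hr : Cyc.HasRelDim f r) :
    Cyc.HasRelDim f' r := by
  rw [← h.flip.isoPullback_hom_fst]
  exact hasRelDim_iso_comp _ _ (hasRelDim_fst hr)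

/-- Every point of a scheme is a specialization of a maximal point. -/
theorem exists_max (x : X) : ∃ ξ : X, ξ ⤳ x ∧ ∀ ζ : X, ζ ⤳ ξ → ζ = ξ := by
  obtain ⟨m, hm, hle⟩ := Ideal.exists_minimalPrimes_le (I := (⊥ : Ideal (X.presheaf.stalk x)))
    (J := IsLocalRing.maximalIdeal _) bot_le
  let P : PrimeSpectrum (X.presheaf.stalk x) := ⟨m, hm.1.1⟩
  refine ⟨ptOf P, ptOf_specializes P, fun ζ hζ => ?_⟩
  have h1 : ζ ⤳ x := hζ.trans (ptOf_specializes P)
  have h2 : primeOf h1 ≤ primeOf (ptOf_specializes P) := (primeOf_le_iff _ _).2 hζ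
  rw [primeOf_ptOf] at h2
  have h3 : P ≤ primeOf h1 := hm.2 ⟨(primeOf h1).2, bot_le⟩ h2
  have h4 : primeOf h1 = primeOf (ptOf_specializes P) := by
    rw [primeOf_ptOf]
    exact le_antisymm h2 h3
  exact (primeOf_inj _ _).1 h4

/-- The dimension of a local ring all of whose maximal generizations have the same dimension. -/
theorem ringKrullDim_stalk {δ : X → ℤ} (hδ : Cyc.IsDimFun X δ) (x : X) (c : ℤ)
    (hc : ∀ ξ : X, ξ ⤳ x → (∀ ζ : X, ζ ⤳ ξ → ζ = ξ) → δ ξ = c) :
    ∃ d : ℕ, ringKrullDim (X.presheaf.stalk x) = d ∧ (d : ℤ) + δ x = c := by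
  obtain ⟨ξ, hξ, hmax⟩ := exists_max x
  have h1 := hc ξ hξ hmax
  have h2 := le_of_specializes hδ hξ
  refine ⟨(c - δ x).toNat, ?_, by omega⟩
  apply le_antisymm
  · refine iSup_le fun p => ?_
    obtain ⟨ξ', h3, h4⟩ := exists_max (ptOf p.head)
    have h5 : ξ' ⤳ x := h3.trans (ptOf_specializes _)
    have h6 : primeOf h5 ≤ p.head := by
      have h7 := (primeOf_le_iff h5 (ptOf_specializes p.head)).2 h3
      rwa [primeOf_ptOf] at h7
    have h8 := length_le_of_lTSeries hδ h5 p h6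
    rw [hc ξ' h5 h4] at h8
    have h9 : p.length ≤ (c - δ x).toNat := by omega
    exact_mod_cast h9
  · obtain ⟨p, hp1, hp2⟩ := exists_lTSeries hδ (c - δ x).toNat hξ (by omega)
    rw [← hp2]
    exact le_iSup (fun p : LTSeries (PrimeSpectrum (X.presheaf.stalk x)) => (p.length : WithBot ℕ∞)) p

/-- Dimension at a point generic in its fibre. -/
theorem delta_eq_of_flat [IsIntegral Y] (f : X ⟶ Y) [Flat f]
    {δX : X → ℤ} {δY : Y → ℤ} (hX : Cyc.IsSetup X δX) (hY : Cyc.IsSetup Y δY) {x : X}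
    (hx : FibGeneric f x) (c : ℤ) (hc : ∀ ξ : X, ξ ⤳ x → (∀ ζ : X, ζ ⤳ ξ → ζ = ξ) → δX ξ = c) :
    c - δX x = δY (genericPoint Y) - δY (f x) := by
  have := hX.1
  have := hY.1
  obtain ⟨a, ha, ha'⟩ := ringKrullDim_stalk hX.2.2 x c hc
  obtain ⟨b, hb, hb'⟩ := CycA.PFFib.exists_dim hY.2.2 (f x)
  let := (f.stalkMap x).hom.toAlgebra
  have h1 : Module.Flat (Y.presheaf.stalk (f x)) (X.presheaf.stalk x) :=
    Flat.stalkMap f x
  have h2 : IsLocalHom (algebraMap (Y.presheaf.stalk (f x)) (X.presheaf.stalk x)) :=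
    inferInstanceAs (IsLocalHom (f.stalkMap x).hom)
  have h3 := Ega41.DimFlat.ringKrullDim_eq_add_of_flat (A := Y.presheaf.stalk (f x))
    (B := X.presheaf.stalk x)
  have h5 : ringKrullDim (X.presheaf.stalk x ⧸ (IsLocalRing.maximalIdeal
      (Y.presheaf.stalk (f x))).map (algebraMap _ (X.presheaf.stalk x))) = 0 := K304.FlatRel.ringKrullDim_fib f hx
  rw [ha, hb, h5, add_zero] at h3
  have h6 : a = b := by exact_mod_cast h3
  omega

theorem hasRelDim_of_open [IsIntegral Y] (f : X ⟶ Y) [Flat f] [LocallyOfFiniteType f] {δX : X → ℤ} {δY : Y → ℤ}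
    (hX : Cyc.IsSetup X δX) (hY : Cyc.IsSetup Y δY) (hδ : Cyc.DeltaCompat f δX δY) (U : Y.Opens)
    (hU : (U : Set Y).Nonempty) {n : ℕ} (h : Cyc.HasRelDim (f ∣_ U) n) : Cyc.HasRelDim f n := by
  have hη : genericPoint Y ∈ U := ((genericPoint_spec Y).mem_open_set_iff U.2).mpr (by simpa using hU)
  have key : ∀ ξ : X, (∀ ζ : X, ζ ⤳ ξ → ζ = ξ) → δX ξ = δY (genericPoint Y) + n := by
    intro ξ hξ
    have h1 : f ξ = genericPoint Y := by
      obtain ⟨x', h2, h3⟩ := exists_specializes_of_flat f (genericPoint_specializes (f ξ))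
      rw [← hξ x' h2, h3]
    have h2 : ξ ∈ f ⁻¹ᵁ U := by
      change f ξ ∈ U
      rw [h1]
      exact hη
    rw [hasRelDim_iff] at h
    have h3 : rtd (f ∣_ U) ⟨ξ, h2⟩ = n := by
      refine h _ fun x' _ hx' => ?_
      have h4 := hx'.map (f ⁻¹ᵁ U).ι.continuous
      apply (f ⁻¹ᵁ U).ι.isOpenEmbedding.injective
      exact hξ _ h4
    have h5 : rtd f ξ = n := by
      have h6 : rtd ((f ⁻¹ᵁ U).ι ≫ f) ⟨ξ, h2⟩ = rtd (f ∣_ U ≫ U.ι) ⟨ξ, h2⟩ := by rw [morphismRestrict_ι]
      rw [rtd_comp, rtd_comp, rtd_eq_zero_of_isPreimmersion (f ⁻¹ᵁ U).ι, rtd_eq_zero_of_isPreimmersion U.ι, add_zero,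
        zero_add, h3] at h6
      exact h6
    obtain ⟨m, hm, hm'⟩ := (deltaCompat_iff.mp hδ) ξ
    rw [h5] at hm
    have h7 : n = m := by exact_mod_cast hm
    rw [hm', h1, h7]
  rw [hasRelDim_iff]
  intro x hx
  have h1 := delta_eq_of_flat f hX hY hx _ fun ξ _ hξ => key ξ hξ
  obtain ⟨m, hm, hm'⟩ := (deltaCompat_iff.mp hδ) x
  rw [hm]
  have : m = n := by omega
  rw [this]

end K101.RelDimFlat
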