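import Groth.Agent.EtAcyc.K101.RelDimFlat
import Groth.Agent.EtAcyc.K153.TreeCurve
import Groth.Agent.SSMod.K971.FlatGraph
import Groth.Agent.StrictSS.K866.MPBack
import Groth.Agent.CycA.SetupField

/-!
# Flattening of a curve with a multisection by a blow-up of the base

`flat`: `B` Noetherian integral of finite type over a field, `π : X ⟶ B` which over a nonempty open set is a smooth curve
with an étale multisection `D`. There are a proper surjective `B₂ ⟶ B`, an isomorphism over a nonempty open set, and a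
multipointed curve `(X₂, D₂)` over `B₂`, with `X₂ ⟶ X` proper and surjective.
-/

set_option autoImplicit false

universe u

open CategoryTheory CategoryTheory.Limits AlgebraicGeometry

namespace K101.TreeFlat

open K153.TreeCurve

section PB

variable {X X₁ X₂ B B₁ B₂ : Scheme.{u}}

/-- The square `a ≫ π = π' ≫ b` is cartesian over the open set `V`. -/
def PB (a : X₁ ⟶ X) (π' : X₁ ⟶ B₁) (π : X ⟶ B) (b : B₁ ⟶ B) (V : B₁.Opens) : Prop :=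
  IsPullback ((π' ⁻¹ᵁ V).ι ≫ a) (π' ∣_ V) π (V.ι ≫ b)

theorem PB.of_isPullback {a : X₁ ⟶ X} {π' : X₁ ⟶ B₁} {π : X ⟶ B} {b : B₁ ⟶ B} (h : IsPullback a π' π b)
    (V : B₁.Opens) : PB a π' π b V :=
  (isPullback_morphismRestrict π' V).flip.paste_horiz h

theorem PB.exists_restrict {a : X₁ ⟶ X} {π' : X₁ ⟶ B₁} {π : X ⟶ B} {b : B₁ ⟶ B} {U : B.Opens}
    (h : PB a π' π b (b ⁻¹ᵁ U)) :
    ∃ m : ((π' ⁻¹ᵁ b ⁻¹ᵁ U : X₁.Opens) : Scheme.{u}) ⟶ (π ⁻¹ᵁ U : X.Opens),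
      IsPullback m (π' ∣_ (b ⁻¹ᵁ U)) (π ∣_ U) (b ∣_ U) ∧ m ≫ (π ⁻¹ᵁ U).ι = (π' ⁻¹ᵁ b ⁻¹ᵁ U).ι ≫ a := by
  have h' : IsPullback ((π' ⁻¹ᵁ b ⁻¹ᵁ U).ι ≫ a) (π' ∣_ (b ⁻¹ᵁ U)) π (b ∣_ U ≫ U.ι) := by
    rw [morphismRestrict_ι]
    exact h
  have h1 := (isPullback_morphismRestrict π U).flip
  refine ⟨h1.lift ((π' ⁻¹ᵁ b ⁻¹ᵁ U).ι ≫ a) (π' ∣_ (b ⁻¹ᵁ U) ≫ b ∣_ U) (by rw [h'.w, Category.assoc]), ?_,
    h1.lift_fst _ _ _⟩
  refine IsPullback.of_right ?_ (h1.lift_snd _ _ _) h1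
  rw [h1.lift_fst]
  exact h'

theorem PB.comp {a₁ : X₁ ⟶ X} {π₁ : X₁ ⟶ B₁} {π : X ⟶ B} {b₁ : B₁ ⟶ B} {V : B₁.Opens} (h₁ : PB a₁ π₁ π b₁ V)
    {a₂ : X₂ ⟶ X₁} {π₂ : X₂ ⟶ B₂} {b₂ : B₂ ⟶ B₁} (h₂ : PB a₂ π₂ π₁ b₂ (b₂ ⁻¹ᵁ V)) :
    PB (a₂ ≫ a₁) π₂ π (b₂ ≫ b₁) (b₂ ⁻¹ᵁ V) := by
  obtain ⟨m, hm, hm'⟩ := h₂.exists_restrict
  have h := hm.paste_horiz h₁
  rw [← Category.assoc, hm', ← Category.assoc (b₂ ∣_ V), morphismRestrict_ι, Category.assoc, Category.assoc] at h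
  exact h

/-- Restriction to a closed subscheme and its pull-back. -/
theorem PB.sub {a : X₁ ⟶ X} {π' : X₁ ⟶ B₁} {π : X ⟶ B} {b : B₁ ⟶ B} {V : B₁.Opens} (h : PB a π' π b V)
    {D D₁ : Scheme.{u}} {i : D ⟶ X} {i₁ : D₁ ⟶ X₁} {d : D₁ ⟶ D} (hd : IsPullback d i₁ i a) :
    PB d (i₁ ≫ π') (i ≫ π) b V := by
  have h1 := ((isPullback_morphismRestrict i₁ (π' ⁻¹ᵁ V)).flip.paste_horiz hd).paste_vert h
  have h2 : (i₁ ≫ π') ∣_ V = i₁ ∣_ (π' ⁻¹ᵁ V) ≫ π' ∣_ V := morphismRestrict_comp _ _ _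
  change IsPullback _ _ _ _
  rw [h2]
  exact h1

end PB

/-- Flattening, with the cartesian square over `U`. -/
theorem exists_flat {S P : Scheme.{u}} [IsIntegral S] [CompactSpace S] [QuasiSeparatedSpace S]
    (π : P ⟶ S) [LocallyOfFiniteType π] [QuasiCompact π] [QuasiSeparated π] (U : S.Opens)
    (hU : IsCompact (U : Set S)) (hne : genericPoint S ∈ U) [Flat (π ∣_ U)]
    [LocallyOfFinitePresentation (π ∣_ U)] :
    ∃ (S' : Scheme.{u}) (b : S' ⟶ S) (W : Scheme.{u}) (j : W ⟶ pullback π b), IsIntegral S' ∧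
      IsProper b ∧ IsIso (b ∣_ U) ∧ IsClosedImmersion j ∧ Flat (j ≫ pullback.snd π b) ∧
      LocallyOfFinitePresentation (j ≫ pullback.snd π b) ∧
      PB (j ≫ pullback.fst π b) (j ≫ pullback.snd π b) π b (b ⁻¹ᵁ U) := by
  obtain ⟨S', b, W, j, h1, h2, h3, h4, h5, h6, h7⟩ := K971.FlatGraph.exists_flat π U hU hne
  refine ⟨S', b, W, j, h1, h2, h3, h4, h5, h6, ?_⟩
  have h8 := PB.of_isPullback (IsPullback.of_hasPullback π b) (b ⁻¹ᵁ U)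
  have h9 : (j ≫ pullback.snd π b) ∣_ (b ⁻¹ᵁ U) = j ∣_ (pullback.snd π b ⁻¹ᵁ b ⁻¹ᵁ U) ≫ pullback.snd π b ∣_ (b ⁻¹ᵁ U) :=
    morphismRestrict_comp _ _ _
  have h10 : IsPullback (j ∣_ (pullback.snd π b ⁻¹ᵁ b ⁻¹ᵁ U)) ((j ≫ pullback.snd π b) ∣_ (b ⁻¹ᵁ U))
      (pullback.snd π b ∣_ (b ⁻¹ᵁ U)) (𝟙 _) := IsPullback.of_horiz_isIso ⟨by rw [h9, Category.comp_id]⟩
  have h11 := h10.paste_horiz h8
  rw [Category.id_comp, ← Category.assoc, morphismRestrict_ι, Category.assoc] at h11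
  exact h11

section Aux

variable {X X₁ B B₁ : Scheme.{u}}

/-- A proper morphism to an irreducible scheme which is surjective over a nonempty open set is surjective. -/
theorem surjective_of_proper [IrreducibleSpace B] (b : B₁ ⟶ B) [IsProper b] (U : B.Opens) (hU : (U : Set B).Nonempty)
    (h : ∀ x ∈ U, x ∈ Set.range b) : Surjective b := by
  have hcl : IsClosed (Set.range b) := b.isClosedMap.isClosed_range
  have hd : Dense (U : Set B) := U.2.dense hU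
  refine ⟨fun y => ?_⟩
  have h2 : closure (U : Set B) ⊆ Set.range b := closure_minimal h hcl
  exact h2 (hd y)

theorem isIntegral_of_flat [IsIntegral B] [IsNoetherian B] (π : X ⟶ B) [Flat π] (U : B.Opens)
    (hU : (U : Set B).Nonempty) (h : IsIntegral ((π ⁻¹ᵁ U : X.Opens) : Scheme.{u})) : IsIntegral X := by
  have h1 : Dense (U : Set B) := U.2.dense hU
  have h2 : IsDominant U.ι := ⟨by rw [DenseRange, Scheme.Opens.range_ι]; exact h1⟩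
  have h3 : IsSchemeTheoreticallyDominant U.ι := IsSchemeTheoreticallyDominant.of_isDominant U.ι
  have h4 : QuasiCompact U.ι := inferInstance
  have h5 : IsSchemeTheoreticallyDominant (π ⁻¹ᵁ U).ι :=
    IsSchemeTheoreticallyDominant.of_isPullback (isPullback_morphismRestrict π U)
  have h6 : QuasiCompact (π ⁻¹ᵁ U).ι := MorphismProperty.of_isPullback (isPullback_morphismRestrict π U) h4
  exact Groth.Agent.S14895.isIntegral_of_dominant (π ⁻¹ᵁ U).ι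

theorem nonempty_preimage (b : B₁ ⟶ B) (U : B.Opens) [IsIso (b ∣_ U)] (hU : (U : Set B).Nonempty) :
    ((b ⁻¹ᵁ U : B₁.Opens) : Set B₁).Nonempty := by
  obtain ⟨x, hx⟩ := hU
  exact ⟨_, ((inv (b ∣_ U)) ⟨x, hx⟩).2⟩

theorem mem_range_of_surjective_restrict (b : B₁ ⟶ B) (U : B.Opens) [Surjective (b ∣_ U)] (x : B) (hx : x ∈ U) :
    x ∈ Set.range b := by
  obtain ⟨y, hy⟩ := (b ∣_ U).surjective ⟨x, hx⟩
  refine ⟨(b ⁻¹ᵁ U).ι y, ?_⟩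
  rw [← Scheme.Hom.comp_apply, ← morphismRestrict_ι, Scheme.Hom.comp_apply, hy]
  rfl

theorem genericPoint_mem [IrreducibleSpace B] (U : B.Opens) (hU : (U : Set B).Nonempty) : genericPoint B ∈ U :=
  ((genericPoint_spec B).mem_open_set_iff U.2).mpr (by simpa using hU)

theorem exists_preimage {P X Y S : Scheme.{u}} {a : P ⟶ X} {b : P ⟶ Y} {f : X ⟶ S} {g : Y ⟶ S}
    (h : IsPullback a b f g) (x : X) (y : Y) (hxy : f x = g y) : ∃ z : P, a z = x ∧ b z = y := by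
  obtain ⟨z, hz1, hz2⟩ := Scheme.Pullback.exists_preimage_pullback x y hxy
  refine ⟨h.isoPullback.inv z, ?_, ?_⟩
  · rw [← Scheme.Hom.comp_apply, h.isoPullback_inv_fst, hz1]
  · rw [← Scheme.Hom.comp_apply, h.isoPullback_inv_snd, hz2]

theorem isNoetherian_of_proper [IsNoetherian B] (b : B₁ ⟶ B) [LocallyOfFiniteType b] [QuasiCompact b] :
    IsNoetherian B₁ := by
  have : IsLocallyNoetherian B₁ := LocallyOfFiniteType.isLocallyNoetherian b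
  have : CompactSpace B₁ := QuasiCompact.compactSpace_of_compactSpace b
  exact {}

end Aux

/-- TREE-FLAT. -/
theorem flat {K : Type u} [Field K] {B X D : Scheme.{u}} [IsIntegral B] [IsNoetherian B] [IsIntegral X]
    (q : B ⟶ Spec (CommRingCat.of K)) [LocallyOfFiniteType q] (π : X ⟶ B)
    [LocallyOfFiniteType π] [QuasiCompact π] (i : D ⟶ X) (U : B.Opens) (h : PreCurve π i U) :
    ∃ (B₂ X₂ D₂ : Scheme.{u}) (_ : IsIntegral B₂) (_ : IsIntegral X₂) (b : B₂ ⟶ B) (g : X₂ ⟶ X)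
      (π₂ : X₂ ⟶ B₂) (i₂ : D₂ ⟶ X₂) (U₂ : B₂.Opens), IsProper b ∧ Surjective b ∧
      (∃ W : B.Opens, (W : Set B).Nonempty ∧ IsIso (b ∣_ W)) ∧ IsProper g ∧ Surjective g ∧ g ≫ π = π₂ ≫ b ∧
      SSMod.IsMPCurve π₂ i₂ ∧ PreCurve π₂ i₂ U₂ ∧
      ∀ x : X₂, π₂ x ∈ U₂ → g x ∈ Set.range i → x ∈ Set.range i₂ := by
  obtain ⟨hdom, hcl, hne, hsm, hrel, het⟩ := h
  have hη : genericPoint B ∈ U := genericPoint_mem U hne
  have hqsX : QuasiSeparatedSpace X := by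
    have : IsLocallyNoetherian X := LocallyOfFiniteType.isLocallyNoetherian π
    infer_instance
  have hqs : QuasiSeparated π := inferInstance
  -- first step
  obtain ⟨B₁, b₁, X₁, j₁, _, hb₁, hb₁i, hj₁, hfl₁, hfp₁, hPB₁⟩ :=
    exists_flat π U (TopologicalSpace.NoetherianSpace.isCompact _) hη
  let π₁ : X₁ ⟶ B₁ := j₁ ≫ pullback.snd π b₁
  let a₁ : X₁ ⟶ X := j₁ ≫ pullback.fst π b₁
  have hw₁ : a₁ ≫ π = π₁ ≫ b₁ := by rw [Category.assoc, Category.assoc, pullback.condition]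
  have ha₁ : IsProper a₁ := inferInstance
  have hB₁ : IsNoetherian B₁ := isNoetherian_of_proper b₁
  let D₁ := pullback i a₁
  let i₁ : D₁ ⟶ X₁ := pullback.snd i a₁
  let d₁ : D₁ ⟶ D := pullback.fst i a₁
  have hPBD₁ : PB d₁ (i₁ ≫ π₁) (i ≫ π) b₁ (b₁ ⁻¹ᵁ U) := PB.sub hPB₁ (IsPullback.of_hasPullback i a₁)
  let U₁ : B₁.Opens := b₁ ⁻¹ᵁ U
  have hetD₁ : Etale ((i₁ ≫ π₁) ∣_ U₁) := by
    obtain ⟨m, hm, -⟩ := hPBD₁.exists_restrict
    exact MorphismProperty.of_isPullback hm het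
  have hne₁ : (U₁ : Set B₁).Nonempty := nonempty_preimage b₁ U hne
  have hη₁ : genericPoint B₁ ∈ U₁ := genericPoint_mem U₁ hne₁
  obtain ⟨B₂, b₂, D₂, j₂, _, hb₂, hb₂i, hj₂, hfl₂, hfp₂, hPBD₂⟩ :=
    exists_flat (i₁ ≫ π₁) U₁ (TopologicalSpace.NoetherianSpace.isCompact _) hη₁
  have hB₂ : IsNoetherian B₂ := isNoetherian_of_proper b₂
  let π₂ : pullback π₁ b₂ ⟶ B₂ := pullback.snd π₁ b₂
  let κ : pullback (i₁ ≫ π₁) b₂ ⟶ pullback π₁ b₂ :=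
    pullback.lift (pullback.fst (i₁ ≫ π₁) b₂ ≫ i₁) (pullback.snd (i₁ ≫ π₁) b₂)
      (by rw [Category.assoc, pullback.condition])
  have hκ1 : κ ≫ pullback.fst π₁ b₂ = pullback.fst (i₁ ≫ π₁) b₂ ≫ i₁ := pullback.lift_fst _ _ _
  have hκ2 : κ ≫ pullback.snd π₁ b₂ = pullback.snd (i₁ ≫ π₁) b₂ := pullback.lift_snd _ _ _
  have hκ : IsPullback (pullback.fst (i₁ ≫ π₁) b₂) κ i₁ (pullback.fst π₁ b₂) := by
    refine IsPullback.of_bot ?_ hκ1.symm (IsPullback.of_hasPullback π₁ b₂)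
    rw [hκ2]
    exact IsPullback.of_hasPullback _ _
  have hκc : IsClosedImmersion κ := MorphismProperty.of_isPullback hκ inferInstance
  let i₂ : D₂ ⟶ pullback π₁ b₂ := j₂ ≫ κ
  have hi₂ : i₂ ≫ π₂ = j₂ ≫ pullback.snd (i₁ ≫ π₁) b₂ := by rw [Category.assoc, hκ2]
  let b : B₂ ⟶ B := b₂ ≫ b₁
  let g : pullback π₁ b₂ ⟶ X := pullback.fst π₁ b₂ ≫ a₁
  have hPB : PB g π₂ π b (b ⁻¹ᵁ U) := hPB₁.comp (PB.of_isPullback (IsPullback.of_hasPullback π₁ b₂) _)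
  have hPBD : PB ((j₂ ≫ pullback.fst (i₁ ≫ π₁) b₂) ≫ d₁) (i₂ ≫ π₂) (i ≫ π) b (b ⁻¹ᵁ U) := by
    rw [hi₂]
    exact hPBD₁.comp hPBD₂
  -- isomorphisms over `U`
  have hbi : IsIso (b ∣_ U) := by
    have h1 : b ∣_ U = b₂ ∣_ U₁ ≫ b₁ ∣_ U := morphismRestrict_comp _ _ _
    rw [h1]
    exact IsIso.comp_isIso' hb₂i hb₁i
  have hne₂ : ((b ⁻¹ᵁ U : B₂.Opens) : Set B₂).Nonempty := nonempty_preimage b U hne
  obtain ⟨m, hm, hm'⟩ := hPB.exists_restrict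
  have hmi : IsIso m := hm.isIso_fst_of_isIso
  have hneX : ((π ⁻¹ᵁ U : X.Opens) : Set X).Nonempty := π.denseRange.exists_mem_open U.2 hne
  have hint₂ : IsIntegral ((π₂ ⁻¹ᵁ b ⁻¹ᵁ U : (pullback π₁ b₂).Opens) : Scheme.{u}) := by
    have h1 : Nonempty ↥((π ⁻¹ᵁ U : X.Opens) : Scheme.{u}) := hneX.to_subtype
    have h2 : Nonempty ↥((π₂ ⁻¹ᵁ b ⁻¹ᵁ U : (pullback π₁ b₂).Opens) : Scheme.{u}) := h1.map (inv m)
    exact isIntegral_of_isOpenImmersion m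
  have hfl₂' : Flat π₂ := inferInstance
  have hX₂ : IsIntegral (pullback π₁ b₂) := isIntegral_of_flat π₂ _ hne₂ hint₂
  have hbp : IsProper b := inferInstance
  have hgp : IsProper g := inferInstance
  have hbs : Surjective b := surjective_of_proper b U hne fun x hx => mem_range_of_surjective_restrict b U x hx
  have hgs : Surjective g := by
    refine surjective_of_proper g (π ⁻¹ᵁ U) hneX fun x hx => ?_
    obtain ⟨y, hy⟩ := m.surjective ⟨x, hx⟩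
    refine ⟨(π₂ ⁻¹ᵁ b ⁻¹ᵁ U).ι y, ?_⟩
    rw [← Scheme.Hom.comp_apply, ← hm', Scheme.Hom.comp_apply, hy]
    rfl
  have hgw : g ≫ π = π₂ ≫ b := by
    rw [Category.assoc, hw₁, pullback.condition_assoc]
  -- dimension functions
  obtain ⟨δB, hδB⟩ := Groth.Agent.CycB.SetupLft.exists_deltaCompat (b ≫ q) (fun _ => 0)
  have hsB : Cyc.IsSetup B₂ δB := Groth.Agent.CycA.SetupField.isSetup_of_field (b ≫ q) hδB
  obtain ⟨mD, hmD, -⟩ := hPBD.exists_restrict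
  have hsm₂ : Smooth (π₂ ∣_ (b ⁻¹ᵁ U)) := MorphismProperty.of_isPullback hm hsm
  have hrel₂ : Cyc.HasRelDim (π₂ ∣_ (b ⁻¹ᵁ U)) 1 := K101.RelDimFlat.hasRelDim_of_isPullback hm hrel
  have het₂ : Etale ((i₂ ≫ π₂) ∣_ (b ⁻¹ᵁ U)) := MorphismProperty.of_isPullback hmD het
  have hflD : Flat (i₂ ≫ π₂) := by rw [hi₂]; exact hfl₂
  have hfpD : LocallyOfFinitePresentation (i₂ ≫ π₂) := by rw [hi₂]; exact hfp₂
  have hrelX : Cyc.HasRelDim π₂ 1 := by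
    obtain ⟨δX, hδX⟩ := Groth.Agent.CycB.SetupLft.exists_deltaCompat π₂ δB
    exact K101.RelDimFlat.hasRelDim_of_open π₂ (Groth.Agent.CycB.SetupLft.isSetup_of_deltaCompat π₂ hsB hδX) hsB hδX
      (b ⁻¹ᵁ U) hne₂ hrel₂
  have hrelD : Cyc.HasRelDim (i₂ ≫ π₂) 0 := by
    obtain ⟨δX, hδX⟩ := Groth.Agent.CycB.SetupLft.exists_deltaCompat (i₂ ≫ π₂) δB
    exact K101.RelDimFlat.hasRelDim_of_open (i₂ ≫ π₂)
      (Groth.Agent.CycB.SetupLft.isSetup_of_deltaCompat (i₂ ≫ π₂) hsB hδX) hsB hδX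
      (b ⁻¹ᵁ U) hne₂ (K866.MPBack.hasRelDim_zero _)
  have hi₂c : IsClosedImmersion i₂ := inferInstance
  refine ⟨B₂, pullback π₁ b₂, D₂, inferInstance, hX₂, b, g, π₂, i₂, b ⁻¹ᵁ U, hbp, hbs, ⟨U, hne, hbi⟩, hgp, hgs, hgw,
    ⟨hfl₂', inferInstance, inferInstance, inferInstance, hrelX, hi₂c, hflD, hfpD, hrelD⟩,
    ⟨?_, hi₂c, hne₂, hsm₂, hrel₂, het₂⟩, ?_⟩
  · have h1 := K304.FlatRel.map_genericPoint π₂
    refine ⟨?_⟩
    rw [DenseRange, dense_iff_closure_eq, ← Set.univ_subset_iff]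
    have h2 : closure ({genericPoint B₂} : Set B₂) = Set.univ := (genericPoint_spec B₂)
    rw [← h2]
    exact closure_mono (Set.singleton_subset_iff.mpr ⟨_, h1⟩)
  · rintro x hx ⟨e, he⟩
    have h1 : (i ≫ π) e = ((b ⁻¹ᵁ U).ι ≫ b) ⟨π₂ x, hx⟩ := by
      rw [Scheme.Hom.comp_apply, he, ← Scheme.Hom.comp_apply, hgw]
      rfl
    obtain ⟨z, hz1, hz2⟩ := exists_preimage hPBD e ⟨π₂ x, hx⟩ h1
    have hgD : i₂ ≫ g = ((j₂ ≫ pullback.fst (i₁ ≫ π₁) b₂) ≫ d₁) ≫ i := by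
      rw [Category.assoc, ← Category.assoc κ, hκ1, Category.assoc, Category.assoc, Category.assoc, pullback.condition]
    let z' : D₂ := ((i₂ ≫ π₂) ⁻¹ᵁ b ⁻¹ᵁ U).ι z
    have hz3 : π₂ (i₂ z') = π₂ x := by
      have h2 := congrArg (b ⁻¹ᵁ U).ι hz2
      rw [← Scheme.Hom.comp_apply, morphismRestrict_ι, Scheme.Hom.comp_apply] at h2
      rw [← Scheme.Hom.comp_apply]
      exact h2
    have hz4 : g (i₂ z') = g x := by
      rw [← Scheme.Hom.comp_apply, hgD, Scheme.Hom.comp_apply, ← he]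
      exact congrArg i hz1
    have hw : i₂ z' ∈ π₂ ⁻¹ᵁ b ⁻¹ᵁ U := by
      change π₂ (i₂ z') ∈ b ⁻¹ᵁ U
      rw [hz3]
      exact hx
    have h5 : ∀ (w : ↥(pullback π₁ b₂)) (hw : w ∈ π₂ ⁻¹ᵁ b ⁻¹ᵁ U), (π ⁻¹ᵁ U).ι (m ⟨w, hw⟩) = g w := by
      intro w hw
      rw [← Scheme.Hom.comp_apply, hm', Scheme.Hom.comp_apply]
      rfl
    have h6 : (⟨i₂ z', hw⟩ : (π₂ ⁻¹ᵁ b ⁻¹ᵁ U : (pullback π₁ b₂).Opens)) = ⟨x, hx⟩ := by
      apply m.injective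
      apply (π ⁻¹ᵁ U).ι.isOpenEmbedding.injective
      rw [h5, h5, hz4]
    exact ⟨z', congrArg Subtype.val h6⟩

end K101.TreeFlat
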